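import Cfsg.Agent.H737.SK.E6Core
import Cfsg.Agent.H297.SK.DichE6
import Cfsg.Agent.H282.SK.Out
import Cfsg.Agent.H731.SK.Rows

/-!
# S3010: the row `E₆(q)`, `q` even (helper737)
-/

set_option autoImplicit false
set_option linter.unusedSectionVars false

namespace Cfsg.Agent.H737.SK.E6

open CoxeterSystem Cfsg.Agent.ChevalleyStructure.CoxeterGeom Cfsg.Agent.Tits.Roots Cfsg.Agent.Tits.Core
  Cfsg.Agent.Tits.Exchange Cfsg.Agent.Nodes.Reps Cfsg.Agent.Nodes.BNOf Cfsg.Agent.Nodes.Coroot Cfsg.Agent.Nodes.Comb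
  Cfsg.Agent.KFacts.RgdField Cfsg.Agent.KFacts.RgdCent Cfsg.Agent.KFacts.ChevTwo Cfsg.Agent.KFacts.RgdSys
  Cfsg.Agent.KFacts.ChevTwoInst Cfsg.Agent.H737.SK.O2 Cfsg.Agent.H282.SK Cfsg.Agent.H737.SK.Gen
  Cfsg.Agent.H737.SK.Chev Cfsg.Agent.H297.SK Cfsg.Agent.H297.SK.Dich
open Cfsg.Lie Cfsg.Agent.ChevalleyStructure Cfsg.Agent.ChevalleyStructure.Elts
  Cfsg.Agent.ChevalleyStructure.RootVec Cfsg.Agent.ChevalleyStructure.FieldIso
  Cfsg.Agent.ChevalleyStructure.CoxeterGeomTypes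
open Cfsg.Agent.Nodes Cfsg.Agent.Nodes.RGDChev
open Cfsg.Agent.H129.TwE6Fr (gam)
open Cfsg.Agent.H297.SK.DichE6 (hp)

universe u

/-- moving a list of simple root elements by a word -/
theorem conj_pr {W Y K : Type*} [Group W] [Group Y] [Field K] {M : CoxeterMatrix (Fin 6)} {cs : CoxeterSystem M W}
    {h : IsCartan M A6} {e : (Fin 6 → ℤ) → K → Y} {T : Subgroup Y} {n : Fin 6 → Y} {X : (Fin 6 → ℤ) → Subgroup Y}
    [Finite W] {R : RGD cs h 2 T n X} (S : Sys R e) (ω J J' : List (Fin 6))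
    (hJ : J.map (fun j => ω.foldr (step A6) (sr j)) = J'.map sr) :
    pr ω (fun j => nel e (sr j)) * pr J (fun j => e (sr j) 1) * (pr ω fun j => nel e (sr j))⁻¹ =
      pr J' (fun j => e (sr j) 1) := by
  have h1 : MulAut.conj (pr ω fun j => nel e (sr j)) (pr J fun j => e (sr j) 1) =
      ((J.map fun j => ω.foldr (step A6) (sr j)).map fun x => e x 1).prod := by
    rw [List.map_map]
    refine (pr_map (MulAut.conj (pr ω fun j => nel e (sr j))).toMonoidHom J _).trans ?_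
    unfold Gen.pr
    congr 1
    refine List.map_congr_left fun j _ => ?_
    refine (word_act S ω (isRoot_sr cs h j) 1).trans ?_
    rw [rep_word]
    rfl
  rw [MulAut.conj_apply] at h1
  rw [h1, hJ, List.map_map]
  rfl

theorem orth6' : ∀ J ∈ [[(1 : Fin 6)], [0, 5], [1, 2, 4]],
    J.Pairwise fun i j : Fin 6 => i ≠ j ∧ chevE6.cartan (i : ℕ) (chevE6.simple (j : ℕ)) = 0 := by
  decide +kernel

/-- the non-trivial element of `C` moved by the graph automorphism, `J = [1, 2, 4]`, `q = 2` -/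
theorem ex_124 {W Y K Y₀ : Type*} [Group W] [Group Y] [Group Y₀] [Field K] {M : CoxeterMatrix (Fin 6)}
    {cs : CoxeterSystem M W} {h : IsCartan M A6} {e : (Fin 6 → ℤ) → K → Y} {T : Subgroup Y} {n : Fin 6 → Y}
    {X : (Fin 6 → ℤ) → Subgroup Y} [Finite W] [Finite Y] [Finite K] {R : RGD cs h 2 T n X} (S : Sys R e)
    (hG1 : RGD.Sup X {x | IsRoot cs h x} = ⊤) (hN : NoCent cs h T X) {α : MulAut Y} (hα : Frb cs h e α)
    {γ : MulAut Y} (hγ : Gra cs h e γ s6) {ζ : K} (hζ : ζ ^ 2 = ζ + 1) (hJ : Orth cs h [(1 : Fin 6), 2, 4])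
    (hJσ : (([(1 : Fin 6), 2, 4]).map s6).Perm [1, 2, 4]) {f : Y₀ →* Y} (hf : Function.Injective f)
    {γ₀ : MulAut Y₀} (hfγ : ∀ y, γ (f y) = f (γ₀ y)) (hr : ∀ y ∈ FixA α, ∃ x, f x = y) {v₀ x₀ : Y₀}
    (hv : f v₀ = (pr [(1 : Fin 6), 2, 4] fun j => nel e (sr j))) (hx : f x₀ = pr [(1 : Fin 6), 2, 4] (xl e)) :
    ∃ z ∈ Subgroup.centralizer {v₀} ⊓ Subgroup.centralizer {x₀}, γ₀ z ≠ z := by
  have hζ0 : ζ ≠ 0 := by
    rintro rfl
    rw [zero_pow two_ne_zero, zero_add] at hζ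
    exact zero_ne_one hζ
  -- the element in the big group
  have z1 := pair_124 S hζ0
  have ha2 := alJ_sq S hJ ζ
  have hav := alJ_nJ S hJ hζ
  have hv2 := nJ_sq S hJ
  have hαa := map_alJ S hJ hα hζ
  have haxa := alJ_xlJ S hJ hG1 hN hζ
  have hγa : γ (pr [1, 2, 4] (al e ζ)) = pr [1, 2, 4] (al e ζ) := by
    refine hγ.pr S hJ hJσ (fun j _ => al_mem S ζ j) fun j => ?_
    unfold al
    rw [map_mul, map_mul, hγ.map _ (isRoot_sr cs _ j), hγ.map _ (isRoot_sr cs _ j).neg, sr_comp hγ.invol]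
    have : (fun k => (-sr j : Fin 6 → ℤ) (s6 k)) = -sr (s6 j) := by
      rw [← sr_comp hγ.invol]; rfl
    rw [this]
  obtain ⟨a, ha⟩ : ∃ a, a = pr [1, 2, 4] (al e ζ) := ⟨_, rfl⟩
  obtain ⟨v, hvd⟩ : ∃ v, v = pr [(1 : Fin 6), 2, 4] fun j => nel e (sr j) := ⟨_, rfl⟩
  obtain ⟨x, hxd⟩ : ∃ x, x = pr [1, 2, 4] (xl e) := ⟨_, rfl⟩
  obtain ⟨t, htd⟩ : ∃ t, t = pr [(1 : Fin 6), 2, 4] fun j => hel e (sr j) ζ := ⟨_, rfl⟩
  obtain ⟨z, hz⟩ : ∃ z, z = e b1 1 * e b2 1 := ⟨_, rfl⟩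
  rw [← ha] at ha2 hav hαa haxa hγa
  rw [← hvd] at hav hv2 hαa hv z1
  rw [← hxd] at haxa hx
  rw [← htd] at haxa z1
  rw [← hz] at z1
  obtain ⟨z2, z3⟩ := mem_cc.1 z1
  have hαz : α z = z := by
    rw [hz, map_mul]
    have e1 := hα.map b1 r_b1 1
    have e2 := hα.map b2 r_b2 1
    rw [one_pow] at e1 e2
    rw [e1, e2]
  have hata : a * t * a = x := by
    rw [← haxa]
    calc a * (a * x * a) * a = (a * a) * x * (a * a) := by group
      _ = x := by rw [ha2, one_mul, mul_one]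
  have h5 := conj_fix hv2 hav hαa hαz z2
  obtain ⟨y, hy⟩ := hr (a * z * a) h5
  refine ⟨y, mem_cc.2 ⟨hf ?_, hf ?_⟩, ?_⟩
  · rw [map_mul, map_mul, hv, hy]
    calc a * z * a * v = a * z * (a * v) := by group
      _ = a * (z * v) * a := by rw [hav]; group
      _ = a * (v * z) * a := by rw [z2]
      _ = (a * v) * z * a := by group
      _ = v * (a * z * a) := by rw [hav]; group
  · rw [map_mul, map_mul, hx, hy, ← hata]
    exact conj_comm ha2 z3
  · intro h6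
    have h7 : γ (a * z * a) = a * z * a := by rw [← hy, hfγ, h6]
    rw [map_mul, map_mul, hγa] at h7
    have h8 := mul_left_cancel (mul_right_cancel h7)
    rw [hz] at h8
    exact ne_gra_124 S hγ h8

section

variable {F : Type} [Field F] [Finite F] [CharP F 2] {W : Type*} [Group W] (cs : CoxeterSystem CoxeterMatrix.E₆ W)

include cs in
/-- the graph automorphisms are compatible with the base change -/
theorem gam_base {F' : Type} [Field F'] [CharP F' 2] (φ : F →+* F') (y : ↥(chevE6.group F)) :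
    gam F' (baseChange chevE6 φ y) = baseChange chevE6 φ (gam F y) := by
  have hγ := DichE6.gra_E6 (K := F) cs
  have hγ' := DichE6.gra_E6 (K := F') cs
  have := finite_W hp cs
  have S := sys (K := F) hp twoOK_E6 cs
  have h1 : RGD.Sup (fun x => (XV chevE6 6 F x).subgroupOf (chevE6.group F)) {x | IsRoot cs hp.isCartan x} ≤
      MonoidHom.eqLocus ((gam F').toMonoidHom.comp (baseChange chevE6 φ))
        ((baseChange chevE6 φ).comp (gam F).toMonoidHom) := by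
    refine RGD.Sup_le fun x hx u hu => ?_
    obtain ⟨a, rfl⟩ := (S.mem_X x hx u).1 hu
    show gam F' (baseChange chevE6 φ (eg hp F x a)) = baseChange chevE6 φ (gam F (eg hp F x a))
    rw [baseChange_eg hp φ cs hx, hγ.map x hx, hγ'.map x hx, baseChange_eg hp φ cs (hγ.root hx)]
  have h2 := G1_eq_top (K := F) hp cs
  have h3 : y ∈ RGD.Sup (fun x => (XV chevE6 6 F x).subgroupOf (chevE6.group F)) {x | IsRoot cs hp.isCartan x} := by
    have : RGDLib.G1 cs hp.isCartan (fun x => (XV chevE6 6 F x).subgroupOf (chevE6.group F)) =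
      RGD.Sup (fun x => (XV chevE6 6 F x).subgroupOf (chevE6.group F)) {x | IsRoot cs hp.isCartan x} := rfl
    rw [← this, h2]
    exact Subgroup.mem_top y
  exact h1 h3

/-- **The data `PB` for `E₆(q)`.** -/
theorem exists_pb {J : List (Fin 6)} (hJ : Orth cs hp.isCartan J) (hJσ : (J.map s6).Perm J) {b : Fin 6 → ℤ}
    (hb : IsRoot cs hp.isCartan b) (hbJ : ∀ j ∈ J, cpr cs hp.isCartan b (sr j) = 0) :
    ∃ x : ↥(chevE6.group F), PB (pr J fun j => nel (eg hp F) (sr j)) x (gam F) (HH cs hp.isCartan (eg hp F)) ∧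
      (∃ f : Fin 6 → ↥(chevE6.group F),
        (∀ j ∈ J, f j ∈ SS (fun x => (XV chevE6 6 F x).subgroupOf (chevE6.group F)) j) ∧ x = pr J f) ∧
      (J = [1, 2, 4] → ∃ z ∈ Subgroup.centralizer {pr J fun j => nel (eg hp F) (sr j)} ⊓ Subgroup.centralizer {x},
        gam F z ≠ z) := by
  have := finite_W hp cs
  have S := sys (K := F) hp twoOK_E6 cs
  have hγ : Gra cs hp.isCartan (eg hp F) (gam F) s6 := DichE6.gra_E6 cs
  have hD : chevE6 ∈ [chevD4, chevF4, chevE6, chevE7, chevE8] := by simp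
  by_cases hK : Nat.card F = 2
  · obtain ⟨K', _, _, _, φ, ζ, hζ, h4⟩ := exists_four hK
    have S' := sys (K := K') hp twoOK_E6 cs
    have hγ' : Gra cs hp.isCartan (eg hp K') (gam K') s6 := DichE6.gra_E6 cs
    have hα : Frb cs hp.isCartan (eg hp K') (groupEquiv chevE6 (frobeniusEquiv K' 2)) := by
      refine ⟨fun x hx a => ?_, h4⟩
      rw [groupEquiv_eg hp _ cs hx]
      rfl
    have hfα : ∀ y, groupEquiv chevE6 (frobeniusEquiv K' 2) (baseChange chevE6 φ y) = baseChange chevE6 φ y := by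
      intro y
      apply Subtype.ext
      apply Units.ext
      change ((((y : GL chevE6.Idx F) : Matrix chevE6.Idx chevE6.Idx F)).map φ).map (frobeniusEquiv K' 2) =
        (((y : GL chevE6.Idx F) : Matrix chevE6.Idx chevE6.Idx F)).map φ
      ext i j
      simp only [Matrix.map_apply]
      have h1 : ∀ c : F, c ^ 2 = c := by
        intro c
        have := Fintype.ofFinite F
        have h1 := FiniteField.pow_card c
        rwa [← Nat.card_eq_fintype_card, hK] at h1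
      show (φ _) ^ 2 = _
      rw [← map_pow, h1]
    obtain ⟨P, hr, hv, hx⟩ := pb_two S hJ hγ hJσ (fun k => conj_mem k) (fun δ hδ => DichE6.cube_E6 cs hδ) hb hbJ
      (fun α _ h => DichE6.dich_E6 cs hb h) (G1_eq_top hp cs) S' (G1_eq_top hp cs) (Chev.noCent hp hD cs) hα hγ' hζ
      (f := baseChange chevE6 φ) (baseChange_injective chevE6 φ)
      (fun x hx => by rw [baseChange_eg hp φ cs hx, map_one]) hfα (fun y => gam_base cs φ y)
    refine ⟨_, P, ⟨_, fun j _ => xl_mem S j, rfl⟩, ?_⟩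
    rintro rfl
    exact ex_124 S' (G1_eq_top hp cs) (Chev.noCent hp hD cs) hα hγ' hζ (E78.orth_of hp cs (orth6' _ (by simp)))
      (by decide) (baseChange_injective chevE6 φ) (fun y => gam_base cs φ y) hr hv hx
  · obtain ⟨r, c, hr, hr2, hc, hc1, hcr⟩ := exists_unit hK
    refine ⟨_, pb_big S hJ hγ hJσ (fun k => conj_mem k) (fun δ hδ => DichE6.cube_E6 cs hδ) hb hbJ
      (fun α _ h => DichE6.dich_E6 cs hb h) (G1_eq_top hp cs) (Chev.noCent hp hD cs) hr hr2 hc hc1 hcr,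
      ⟨_, fun j _ => hel_memS S j c, rfl⟩, ?_⟩
    rintro rfl
    exact ⟨_, pair_124 S hc, ne_gra_124 S hγ⟩

end

/-- representatives invariant under the graph automorphism -/
theorem reps' {F : Type} [Field F] [Finite F] [CharP F 2] {W : Type*} [Group W]
    (cs : CoxeterSystem CoxeterMatrix.E₆ W) (y : ↥(chevE6.group F)) (h1 : y ≠ 1) (h2 : y * y = 1) :
    ∃ J ∈ [[(1 : Fin 6)], [0, 5], [1, 2, 4]], ∃ g : ↥(chevE6.group F),
      g * y * g⁻¹ = pr J fun j => nel (eg hp F) (sr j) := by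
  have := finite_W hp cs
  have S := sys (K := F) hp twoOK_E6 cs
  have key : ∃ J ∈ [[(1 : Fin 6)], [0, 5], [1, 2, 4]], ∃ g : ↥(chevE6.group F),
      g * y * g⁻¹ = pr J fun j => eg hp F (sr j) 1 := by
    obtain ⟨J, hJ, x, e⟩ := Cfsg.Agent.H167.SK.Reps.reps_E6 (F := F) hp y (E78.orderOf_two h1 h2)
    have hc : ∀ (ω J' : List (Fin 6)), J' ∈ [[(1 : Fin 6)], [0, 5], [1, 2, 4]] →
        J.map (fun j => ω.foldr (step A6) (sr j)) = J'.map sr → ∃ J ∈ [[(1 : Fin 6)], [0, 5], [1, 2, 4]],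
          ∃ g : ↥(chevE6.group F), g * y * g⁻¹ = pr J fun j => eg hp F (sr j) 1 := by
      intro ω J' hJ' hm
      have h3 := conj_pr S ω J J' hm
      refine ⟨J', hJ', pr ω (fun j => nel (eg hp F) (sr j)) * x, ?_⟩
      rw [← h3, show (pr J fun j => eg hp F (sr j) 1) = x * y * x⁻¹ from e.symm]
      group
    simp only [Cfsg.Agent.H167.SK.Reps.J6, List.mem_cons, List.not_mem_nil, or_false] at hJ
    rcases hJ with rfl | rfl | rfl
    · exact hc [3, 2, 1, 3, 0, 2] [1] (by simp) (by decide +kernel)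
    · exact hc [4, 5, 3, 4, 1, 3] [0, 5] (by simp) (by decide +kernel)
    · exact hc [5, 4, 3, 2, 1, 3, 4, 5, 0, 2] [1, 2, 4] (by simp) (by decide +kernel)
  obtain ⟨J, hJ, g, e⟩ := key
  refine ⟨J, hJ, pr J (fun j => eg hp F (sr j) 1 * nel (eg hp F) (sr j)) * g, ?_⟩
  rw [nJ_conj S (E78.orth_of hp cs (orth6' J hJ)), ← e]
  group

/-- **The row `E₆(q)`, `q` even.** -/
theorem dead_E6 : DeadS.{u} fun K _ => Cfsg.Agent.H731.SK.ESixEven K := by
  rintro G _ _ V K h ⟨F, _, _, _, ⟨e⟩⟩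
  obtain ⟨cs, -⟩ : ∃ cs : CoxeterSystem CoxeterMatrix.E₆ CoxeterMatrix.E₆.Group,
    cs = CoxeterMatrix.E₆.toCoxeterSystem := ⟨_, rfl⟩
  have := finite_W hp cs
  have S := sys (K := F) hp twoOK_E6 cs
  have hγ : Gra cs hp.isCartan (eg hp F) (gam F) s6 := DichE6.gra_E6 cs
  obtain ⟨w, hw, hw1, hwK⟩ := h.exists_mem_inf e (outLe_chev chevE6 (by simp))
  have h1 : e ⟨w, hwK⟩ ≠ 1 := by
    intro h1
    apply hw1
    have : (⟨w, hwK⟩ : K) = 1 := e.injective (by rw [h1, map_one])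
    exact congrArg Subtype.val this
  have h2 : e ⟨w, hwK⟩ * e ⟨w, hwK⟩ = 1 := by
    rw [← map_mul]
    have : (⟨w, hwK⟩ : K) * ⟨w, hwK⟩ = 1 := Subtype.ext (h.sq hw)
    rw [this, map_one]
  obtain ⟨J, hJ, g, eJ⟩ := reps' cs (F := F) (e ⟨w, hwK⟩) h1 h2
  obtain ⟨e', he'⟩ : ∃ e' : K ≃* ↥(chevE6.group F), e' = e.trans (MulAut.conj g) := ⟨_, rfl⟩
  have hv : e' ⟨w, hwK⟩ = pr J fun j => nel (eg hp F) (sr j) := by rw [he', ← eJ]; rfl
  have hO := E78.orth_of hp cs (orth6' J hJ)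
  have hgood : ∀ {J : List (Fin 6)}, e' ⟨w, hwK⟩ = (pr J fun j => nel (eg hp F) (sr j)) →
      Good (pr J fun j => nel (eg hp F) (sr j)) → False := fun hv hg => h.not_good e' hw hw1 hwK (hv ▸ hg)
  simp only [List.mem_cons, List.not_mem_nil, or_false] at hJ
  rcases hJ with rfl | rfl | rfl
  · have hb : IsRoot cs hp.isCartan (sr (0 : Fin 6)) := isRoot_sr cs _ 0
    have hbJ : ∀ j ∈ [(1 : Fin 6)], cpr cs hp.isCartan (sr 0) (sr j) = 0 := by
      have key : ∀ j ∈ [(1 : Fin 6)], pairing A6 j (sr 0) = 0 := by decide +kernel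
      intro j hj
      rw [cpr_sr]
      exact key j hj
    obtain ⟨x, P, ⟨f, hf, rfl⟩, -⟩ := exists_pb (F := F) cs hO (by decide) hb hbJ
    refine hgood hv (P.good (DichE6.center_E6 (K := F)) (z := eg hp F (sr 0) 1) ?_ (ne_gra_1 S hγ))
    have hz : eg hp F (sr 0) 1 ∈ (XV chevE6 6 F (sr 0)).subgroupOf (chevE6.group F) := S.mem hb 1
    exact mem_cc.2 ⟨(perp_comm S hb hbJ hz fun j _ => nel_mem S j).eq, (perp_comm S hb hbJ hz hf).eq⟩
  · have hb : IsRoot cs hp.isCartan (sr (1 : Fin 6)) := isRoot_sr cs _ 1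
    have hbJ : ∀ j ∈ [(0 : Fin 6), 5], cpr cs hp.isCartan (sr 1) (sr j) = 0 := by
      have key : ∀ j ∈ [(0 : Fin 6), 5], pairing A6 j (sr 1) = 0 := by decide +kernel
      intro j hj
      rw [cpr_sr]
      exact key j hj
    obtain ⟨x, P, -, -⟩ := exists_pb (F := F) cs hO (by decide) hb hbJ
    obtain ⟨c₁, c₂, h3, h4, h5⟩ := noncomm_05 S hγ
    rw [← hv] at P h3 h4
    exact P.false_of h e' hwK hw hw1 h3 h4 h5
  · obtain ⟨x, P, -, hz⟩ := exists_pb (F := F) cs hO (by decide) r_b4 perp_b4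
    obtain ⟨z, hz, hzg⟩ := hz rfl
    exact hgood hv (P.good (DichE6.center_E6 (K := F)) hz hzg)

end Cfsg.Agent.H737.SK.E6
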