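import Cfsg.Agent.H737.SK.GoodE78
import Cfsg.Agent.H282.SK.Out
import Cfsg.Agent.H731.SK.Rows

/-!
# S3010: the rows `E₇(q)`, `E₈(q)`, `q` even (helper737)
-/

set_option autoImplicit false

namespace Cfsg.Agent.H737.SK.E78

open Cfsg.Lie Cfsg.Agent.H282.SK

universe u

/-- **The row `E₇(q)`, `q` even.** -/
theorem dead_E7 : DeadS.{u} fun K _ => Cfsg.Agent.H731.SK.ESevenEven K := by
  rintro G _ _ V K h ⟨F, _, _, _, e⟩
  exact dead_of_good good_E7 (outLe_chev chevE7 (by simp)) V K h e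

/-- **The row `E₈(q)`, `q` even.** -/
theorem dead_E8 : DeadS.{u} fun K _ => Cfsg.Agent.H731.SK.EEightEven K := by
  rintro G _ _ V K h ⟨F, _, _, _, e⟩
  exact dead_of_good good_E8 (outLe_chev chevE8 (by simp)) V K h e

end Cfsg.Agent.H737.SK.E78
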